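import Cfsg.Agent.Lib.FTDep.FixedGenerationMain
import Cfsg.Agent.Lib.Signalizer.Basic
import Cfsg.Agent.S0205

/-!
Owner: helper15. Walter, rank four: the coprime fact behind the functor.

* `fixed_commutator_le`: `C_{[Q, A]}(A)` lies in `D` as soon as the `C(A) ∩ [C_Q(a), A]` do.
-/

set_option autoImplicit false
set_option linter.style.haveILetI false
set_option linter.unusedSectionVars false

namespace CfsgLib.Walter.RankFour

open Subgroup

universe u

variable {G : Type u} [Group G] [Finite G]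

/-- For a noncyclic elementary 2-group `A` acting on an odd group `Q`: if `D` contains all the
`C(A) ∩ [C_Q(a), A]` then it contains `C(A) ∩ [Q, A]`. -/
theorem fixed_commutator_le {A Q D : Subgroup G} (hA : Cfsg.IsElementaryAbelian 2 A)
    (h4 : 4 ≤ Nat.card A) (hAQ : A ≤ normalizer (Q : Set G)) (hQ : Odd (Nat.card Q))
    (h : ∀ a ∈ A, a ≠ 1 →
      ⁅Q ⊓ centralizer ({a} : Set G), A⁆ ⊓ centralizer (A : Set G) ≤ D) :
    ⁅Q, A⁆ ⊓ centralizer (A : Set G) ≤ D := by
  haveI : Fact (Nat.Prime 2) := ⟨Nat.prime_two⟩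
  have hpA : IsPGroup 2 A := CfsgLib.Signalizer.elementary_isPGroup hA
  haveI := hpA.isNilpotent
  have hndvd : ¬ 2 ∣ Nat.card Q := fun hd => Nat.not_even_iff_odd.2 hQ (even_iff_two_dvd.2 hd)
  have hle : ⁅Q, A⁆ ≤ Q := CfsgLib.Core.commutator_le_of_normalizes hAQ
  have hY : ⁅⁅Q, A⁆, A⁆ = ⁅Q, A⁆ := CfsgLib.Core.commutator_commutator_eq hAQ
    (CfsgLib.Signalizer.coprime_card_of_pGroup hpA hndvd) (Or.inl inferInstance)
  have hset : CfsgLib.FTDep.Setup 2 A A ⁅Q, A⁆ :=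
    ⟨hpA, hA.1, le_rfl, fun hd => hndvd (hd.trans (card_dvd_of_le hle)),
      Subgroup.normalizer_commutator_ge_right _ _⟩
  refine (CfsgLib.FTDep.fixed_generation _ hset
    (Cfsg.Agent.S0205.result (hQ.of_dvd_nat (card_dvd_of_le hle))) hY rfl).trans
    (iSup_le fun B₀ => ?_)
  obtain ⟨B₀, hB, b, hb, hle'⟩ := B₀
  obtain ⟨a, ha, ha1⟩ := B₀.bot_or_exists_ne_one.resolve_left fun e => by
    rw [e, bot_sup_eq] at hle'
    have h1 := card_le_of_le hle'
    rw [Nat.card_zpowers] at h1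
    have h2 : orderOf b ≤ 2 := orderOf_le_of_pow_eq_one two_pos (hA.2 b hb)
    omega
  rintro x ⟨⟨-, hxA⟩, hx⟩
  refine h a (hB ha) ha1 ⟨?_, hxA⟩
  exact commutator_mono (inf_le_inf hle (centralizer_le (Set.singleton_subset_iff.2 ha))) le_rfl hx

end CfsgLib.Walter.RankFour
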