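import Cfsg.Agent.Lib.Recog.Walter.RankFour.Coprime
import Cfsg.Agent.Lib.Recog.Walter.SmallU2Local
import Cfsg.Agent.Lib.InvCentTwoNilp.Basic

/-!
Owner: helper15. Walter, rank four: the signalizer functor.

`E = V × C` with `|V| = |C| = 4` such that every component of every `C(y) / O(C(y))` has `C` or `V` as
its centralized part. For `U ∈ {C, V}`:
* `dU U = ⋂ O(C(u))`, `u ∈ U#`;
* `pU U x = [O(C(x)), U] (O(C(x)) ∩ dU U)`; for each `u ∈ U#` also `[O(C(x)), u] (O(C(x)) ∩ O(C(u)))`;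
* `th V C x = pU C x ∩ pU V x` is a balanced functor on `E`.
-/

set_option autoImplicit false
set_option linter.style.haveILetI false
set_option linter.unusedSectionVars false

namespace CfsgLib.Walter.RankFour

open Subgroup
open CfsgLib.Walter.SmallU (Local Quo proj cK mem_cK core core_le odd_core core_conj)
open scoped commutatorElement

universe u

variable {G : Type u} [Group G] [Finite G]

/-- `⋂ O(C(u))` over `u ∈ U#`. -/
def dU (U : Subgroup G) : Subgroup G := ⨅ u : {u : G // u ∈ U ∧ u ≠ 1}, core (u : G)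

/-- The part of `O(C(x))` invisible in the components centralized by `U`. -/
def pU (U : Subgroup G) (x : G) : Subgroup G := ⁅core x, U⁆ ⊔ (core x ⊓ dU U)

/-- The functor. -/
def th (V C : Subgroup G) (x : G) : Subgroup G := pU C x ⊓ pU V x

theorem th_comm (V C : Subgroup G) (x : G) : th V C x = th C V x := inf_comm _ _

theorem mem_dU {U : Subgroup G} {z : G} : z ∈ dU U ↔ ∀ u ∈ U, u ≠ 1 → z ∈ core u := by
  simp only [dU, Subgroup.mem_iInf, Subtype.forall, and_imp]

theorem centralizer_le_normalizer_core (x : G) :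
    centralizer ({x} : Set G) ≤ normalizer (core x : Set G) := fun g hg =>
  CfsgLib.Signalizer.Solv.mem_normalizer_of_forall_le fun y hy => by
    have h := core_conj g x hy
    rwa [mem_centralizer_singleton_iff.1 hg, mul_inv_cancel_right] at h

/-- The standing hypotheses. -/
structure Two (S : Sylow 2 G) (E V C : Subgroup G) : Prop where
  loc : Local S E
  V_le : V ≤ E
  C_le : C ≤ E
  disj : V ⊓ C = ⊥
  sup_eq : V ⊔ C = E
  card_V : Nat.card V = 4
  card_C : Nat.card C = 4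
  comp : ∀ y ∈ E, y ≠ 1 → ∀ K : Subgroup (Quo y), Cfsg.IsComponent K → cK E y K = C ∨ cK E y K = V

variable {S : Sylow 2 G} {E V C : Subgroup G}

theorem Two.symm (h : Two S E V C) : Two S E C V where
  loc := h.loc
  V_le := h.C_le
  C_le := h.V_le
  disj := by rw [inf_comm]; exact h.disj
  sup_eq := by rw [sup_comm]; exact h.sup_eq
  card_V := h.card_C
  card_C := h.card_V
  comp := fun y hy hy1 K hK => (h.comp y hy hy1 K hK).symm

namespace Two

variable (h : Two S E V C)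
include h

theorem elemC : Cfsg.IsElementaryAbelian 2 C := CfsgLib.Signalizer.elementary_of_le h.loc.elem h.C_le

theorem commE {x y : G} (hx : x ∈ E) (hy : y ∈ E) : x * y = y * x :=
  CfsgLib.Signalizer.elementary_comm h.loc.elem hx hy

theorem le_cent {x : G} (hx : x ∈ E) : E ≤ centralizer ({x} : Set G) := h.loc.le_cent hx

theorem E_le_normalizer_core {x : G} (hx : x ∈ E) : E ≤ normalizer (core x : Set G) :=
  (h.le_cent hx).trans (centralizer_le_normalizer_core x)

theorem cop {A K : Subgroup G} (hA : A ≤ E) (hK : Odd (Nat.card K)) : (Nat.card A).Coprime (Nat.card K) :=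
  haveI : Fact (Nat.Prime 2) := ⟨Nat.prime_two⟩
  CfsgLib.Signalizer.coprime_card_of_pGroup
    ((CfsgLib.Signalizer.elementary_isPGroup h.loc.elem).to_le hA)
    fun hd => Nat.not_even_iff_odd.2 hK (even_iff_two_dvd.2 hd)

theorem solv {A : Subgroup G} (hA : A ≤ E) : Group.IsSolvable A :=
  Group.isSolvable_of_comm fun a b => Subtype.ext (h.commE (hA a.2) (hA b.2))

/-- Coprime decomposition with respect to a part of `E`. -/
theorem split {A K : Subgroup G} (hA : A ≤ E) (hAK : A ≤ normalizer (K : Set G)) (hK : Odd (Nat.card K))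
    {z : G} (hz : z ∈ K) : ∃ w ∈ ⁅K, A⁆, ∃ c ∈ K ⊓ centralizer (A : Set G), z = w * c :=
  CfsgLib.Core.exists_mul_centralizing hAK (h.cop hA hK) (Or.inl (h.solv hA)) hz

theorem E_le_normalizer_inf {x y : G} (hx : x ∈ E) (hy : y ∈ E) :
    E ≤ normalizer ((core x ⊓ centralizer ({y} : Set G) : Subgroup G) : Set G) := fun e he =>
  inf_normalizer_le_normalizer_inf ⟨h.E_le_normalizer_core hx he, le_normalizer (h.le_cent hy he)⟩

/-- The image of `O(C(x)) ∩ C(y)` in `C(y) / O(C(y))`. -/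
theorem exists_image {x y : G} (hx : x ∈ E) (hx1 : x ≠ 1) (hy : y ∈ E) :
    ∃ D : Subgroup (Quo y), Odd (Nat.card D) ∧
      (∀ z : ↥(centralizer ({y} : Set G)), (z : G) ∈ core x → proj y z ∈ D) ∧
      orderOf (proj y ⟨x, h.le_cent hy hx⟩) = 2 ∧
      D ≤ centralizer ({proj y ⟨x, h.le_cent hy hx⟩} : Set (Quo y)) ∧
      centralizer ({proj y ⟨x, h.le_cent hy hx⟩} : Set (Quo y)) ≤ normalizer (D : Set (Quo y)) := by
  set Y := centralizer ({y} : Set G) with hY
  set π := proj y with hπ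
  have hx2 : orderOf (⟨x, h.le_cent hy hx⟩ : ↥Y) = 2 := by
    rw [Subgroup.orderOf_mk]; exact CfsgLib.Signalizer.orderOf_eq_two_of hx1 (SmallU.sq_one h.loc.elem hx)
  have hmap := CfsgLib.GW.DGroup.map_centralizer_singleton hx2
  refine ⟨((core x).subgroupOf Y).map π, ?_, fun z hz => ⟨z, hz, rfl⟩, ?_, ?_, ?_⟩
  · refine ((odd_core x).of_dvd_nat ?_).of_dvd_nat (((core x).subgroupOf Y).card_map_dvd π)
    rw [Nat.card_congr (equivMapOfInjective _ Y.subtype Y.subtype_injective).toEquiv]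
    exact card_dvd_of_le (map_comap_le _ _)
  · refine CfsgLib.Signalizer.orderOf_eq_two_of
      (fun e => hx1 (h.loc.proj_eq_one hy (h.loc.le_sylow hx) e)) ?_
    rw [← map_mul, show (⟨x, h.le_cent hy hx⟩ * ⟨x, h.le_cent hy hx⟩ : ↥Y) = 1 from
      Subtype.ext (SmallU.sq_one h.loc.elem hx), map_one]
  · rintro _ ⟨z, hz, rfl⟩
    rw [mem_centralizer_singleton_iff, ← map_mul, ← map_mul]
    exact congrArg _ (Subtype.ext (mem_centralizer_singleton_iff.1 (core_le x hz)))
  · rw [← hmap]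
    rintro _ ⟨c, hc, rfl⟩
    refine le_normalizer_map π ⟨c, ?_, rfl⟩
    have hcx : (c : G) ∈ centralizer ({x} : Set G) := mem_centralizer_singleton_iff.2
      (congrArg Subtype.val (mem_centralizer_singleton_iff.1 hc))
    exact CfsgLib.Signalizer.Solv.mem_normalizer_of_forall_le fun z hz =>
      (mem_normalizer_iff.1 (centralizer_le_normalizer_core x hcx) _).1 hz

/-- An element of `O(C(x)) ∩ C(y)` centralizing every component of `C(y) / O(C(y))` lies in `O(C(y))`. -/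
theorem mem_core_of {x y : G} (hx : x ∈ E) (hx1 : x ≠ 1) (hy : y ∈ E) {z : G} (hzx : z ∈ core x)
    (hzy : z ∈ centralizer ({y} : Set G))
    (hK : ∀ K : Subgroup (Quo y), Cfsg.IsComponent K → ∀ k ∈ K,
      proj y ⟨z, hzy⟩ * k = k * proj y ⟨z, hzy⟩) :
    z ∈ core y := by
  obtain ⟨D, hDodd, hmem, -, -, hDn⟩ := h.exists_image hx hx1 hy
  refine ⟨⟨z, hzy⟩, (QuotientGroup.eq_one_iff _).1 ?_, rfl⟩
  exact SmallU.eq_one_of_centralizes_components (h.loc.quo_ab hy) (Local.quo_core y) (h.loc.imS hy)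
    (h.loc.mem_imS hy (h.loc.le_sylow hx)) hDodd hDn (hmem _ hzx) fun K hK' k hk =>
      mul_inv_eq_iff_eq_mul.2 (hK K hK' k hk)

/-- A component centralized by `x` is centralized by `O(C(x)) ∩ C(y)`. -/
theorem commute_of_mem_cK {x y : G} (hx : x ∈ E) (hx1 : x ≠ 1) (hy : y ∈ E) {K : Subgroup (Quo y)}
    (hK : Cfsg.IsComponent K) (hxK : x ∈ cK E y K) {z : G} (hzx : z ∈ core x)
    (hzy : z ∈ centralizer ({y} : Set G)) :
    ∀ k ∈ K, proj y ⟨z, hzy⟩ * k = k * proj y ⟨z, hzy⟩ := by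
  obtain ⟨D, hDodd, hmem, hx2, hDle, hDn⟩ := h.exists_image hx hx1 hy
  exact fun k hk => mul_inv_eq_iff_eq_mul.1 (SmallU.centralizes_component (h.loc.quo_ab hy) (Local.quo_core y)
    (h.loc.imS hy) (h.loc.mem_imS hy (h.loc.le_sylow hx)) hDodd hDn hx2 hDle hK
    (Or.inr fun g hg => by rw [(mem_cK hx (h.le_cent hy hx)).1 hxK g hg, mul_inv_cancel_right])
    _ (hmem _ hzx) k hk)

/-- `[O(C(x)) ∩ C(y), U]` centralizes the components centralized by `U`. -/
theorem commute_of_commutator {x y : G} (hx : x ∈ E) (hx1 : x ≠ 1) (hy : y ∈ E) {K : Subgroup (Quo y)}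
    (hK : Cfsg.IsComponent K) {U : Subgroup G} (hU : U ≤ cK E y K) :
    ∀ z ∈ ⁅core x ⊓ centralizer ({y} : Set G), U⁆, ∀ hzy : z ∈ centralizer ({y} : Set G),
      ∀ k ∈ K, proj y ⟨z, hzy⟩ * k = k * proj y ⟨z, hzy⟩ := by
  obtain ⟨D, hDodd, hmem, hx2, -, hDn⟩ := h.exists_image hx hx1 hy
  have hnorm := SmallU.normalizes_component (h.loc.quo_ab hy) (Local.quo_core y) (h.loc.imS hy)
    (h.loc.mem_imS hy (h.loc.le_sylow hx)) hDodd hDn hK
  set H : Subgroup G :=
    ((centralizer (K : Set (Quo y))).comap (proj y)).map (centralizer ({y} : Set G)).subtype with hH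
  have hle : ⁅core x ⊓ centralizer ({y} : Set G), U⁆ ≤ H := by
    refine commutator_le.2 fun d hd u hu => ?_
    have huC : u ∈ centralizer ({y} : Set G) := h.le_cent hy (hU hu).1
    have huc : proj y ⟨u, huC⟩ ∈ centralizer (K : Set (Quo y)) :=
      mem_centralizer_iff.2 fun k hk => ((mem_cK (hU hu).1 huC).1 (hU hu) k hk).symm
    have hdn : proj y ⟨d, hd.2⟩ ∈ normalizer (centralizer (K : Set (Quo y)) : Set (Quo y)) :=
      CfsgLib.Transfer.normalizer_le_normalizer_centralizer K (hnorm (hmem _ hd.1))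
    refine ⟨⟨d, hd.2⟩ * ⟨u, huC⟩ * (⟨d, hd.2⟩ : ↥(centralizer ({y} : Set G)))⁻¹ *
      (⟨u, huC⟩ : ↥(centralizer ({y} : Set G)))⁻¹, ?_, rfl⟩
    show proj y _ ∈ centralizer (K : Set (Quo y))
    rw [map_mul, map_mul, map_mul, map_inv, map_inv]
    exact mul_mem ((mem_normalizer_iff.1 hdn _).1 huc) (inv_mem huc)
  intro z hz hzy k hk
  obtain ⟨w, hw, hwz⟩ := hle hz
  rw [show (⟨z, hzy⟩ : ↥(centralizer ({y} : Set G))) = w from Subtype.ext hwz.symm]
  exact (mem_centralizer_iff.1 hw k hk).symm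

/-- The components at a point of `C` have centralized part `C`. -/
theorem cK_eq_C {u : G} (hu : u ∈ C) (hu1 : u ≠ 1) {K : Subgroup (Quo u)} (hK : Cfsg.IsComponent K) :
    cK E u K = C := by
  refine (h.comp u (h.C_le hu) hu1 K hK).resolve_right fun e => hu1 ?_
  have hu2 : u ∈ V ⊓ C := ⟨e ▸ h.loc.a_mem_cK (h.C_le hu), hu⟩
  rwa [h.disj, mem_bot] at hu2

/-- Balance inside `C`. -/
theorem balance_C {u u' : G} (hu : u ∈ C) (hu1 : u ≠ 1) (hu' : u' ∈ C) (hu'1 : u' ≠ 1) {z : G}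
    (hz : z ∈ core u) (hzc : z ∈ centralizer ({u'} : Set G)) : z ∈ core u' :=
  h.mem_core_of (h.C_le hu) hu1 (h.C_le hu') hz hzc fun K hK =>
    h.commute_of_mem_cK (h.C_le hu) hu1 (h.C_le hu') hK (by rw [h.cK_eq_C hu' hu'1 hK]; exact hu) hz hzc

theorem mem_dU_of {u : G} (hu : u ∈ C) (hu1 : u ≠ 1) {z : G} (hz : z ∈ core u)
    (hzC : z ∈ centralizer (C : Set G)) : z ∈ dU C :=
  mem_dU.2 fun u' hu' hu'1 => h.balance_C hu hu1 hu' hu'1 hz
    (mem_centralizer_singleton_iff.2 (mem_centralizer_iff.1 hzC u' hu').symm)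

theorem commutator_le_core {x u : G} (hx : x ∈ E) (hx1 : x ≠ 1) (hu : u ∈ C) (hu1 : u ≠ 1) :
    ⁅core x ⊓ centralizer ({u} : Set G), C⁆ ≤ core u := fun z hz => by
  have hz' := CfsgLib.Core.commutator_le_of_normalizes
    (h.C_le.trans (h.E_le_normalizer_inf hx (h.C_le hu))) hz
  exact h.mem_core_of hx hx1 (h.C_le hu) hz'.1 hz'.2 fun K hK =>
    h.commute_of_commutator hx hx1 (h.C_le hu) hK (h.cK_eq_C hu hu1 hK).ge z hz hz'.2

theorem exists_mem_C : ∃ u ∈ C, u ≠ 1 := by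
  refine C.bot_or_exists_ne_one.resolve_left fun e => ?_
  have := h.card_C
  rw [e, Subgroup.card_bot] at this
  omega

theorem dU_le_centralizer : dU C ≤ centralizer (C : Set G) := fun z hz => mem_centralizer_iff.2 fun u hu => by
  rcases eq_or_ne u 1 with rfl | hu1
  · simp
  · exact (mem_centralizer_singleton_iff.1 (core_le u (mem_dU.1 hz u hu hu1))).symm

theorem dU_le_normalizer {x : G} : core x ⊓ dU C ≤ normalizer ((⁅core x, C⁆ : Subgroup G) : Set G) :=
  inf_le_left.trans (normalizer_commutator_ge_left _ _)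

/-- The fixed points of `pU C x` lie in `dU C`. -/
theorem pU_fixed {x : G} (hx : x ∈ E) (hx1 : x ≠ 1) {z : G} (hz : z ∈ pU C x)
    (hzC : z ∈ centralizer (C : Set G)) : z ∈ dU C := by
  rw [pU, sup_comm] at hz
  obtain ⟨f, hf, q, hq, rfl⟩ := (CfsgLib.Core.mem_sup_iff_mul h.dU_le_normalizer).1 hz
  refine mul_mem hf.2 (fixed_commutator_le h.elemC h.card_C.ge (h.C_le.trans (h.E_le_normalizer_core hx))
    (odd_core x) (fun a ha ha1 w hw => h.mem_dU_of ha ha1 (h.commutator_le_core hx hx1 ha ha1 hw.1) hw.2)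
    ⟨hq, ?_⟩)
  have h1 := mul_mem (inv_mem (h.dU_le_centralizer hf.2)) hzC
  rwa [inv_mul_cancel_left] at h1

/-- The second description of `pU C x`. -/
theorem pU_eq {x u : G} (hx : x ∈ E) (hx1 : x ≠ 1) (hu : u ∈ C) (hu1 : u ≠ 1) :
    pU C x = ⁅core x, zpowers u⁆ ⊔ (core x ⊓ core u) := by
  have hzu : zpowers u ≤ C := zpowers_le.2 hu
  have hCn : C ≤ normalizer (core x : Set G) := h.C_le.trans (h.E_le_normalizer_core hx)
  have hcR : ∀ w ∈ C, w ∈ normalizer ((⁅core x, zpowers u⁆ : Subgroup G) : Set G) := fun w hw => by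
    refine mem_normalizer_iff_map_conj_eq.2 ?_
    rw [map_commutator, mem_normalizer_iff_map_conj_eq.1 (hCn hw), MonoidHom.map_zpowers]
    congr 2
    show w * u * w⁻¹ = u
    rw [h.commE (h.C_le hw) (h.C_le hu), mul_inv_cancel_right]
  refine le_antisymm (sup_le (commutator_le.2 fun y hy w hw => ?_) ?_) (sup_le ?_ ?_)
  · obtain ⟨q, hq, f, hf, rfl⟩ := h.split (zpowers_le.2 (h.C_le hu)) (hzu.trans hCn) (odd_core x) hy
    set H := ⁅core x, zpowers u⁆ ⊔ (core x ⊓ core u)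
    have hqH : q ∈ H := mem_sup_left hq
    have hqw : ⁅q, w⁆ ∈ H := by
      refine mem_sup_left ?_
      rw [commutatorElement_def, mul_assoc q w, mul_assoc q (w * q⁻¹)]
      exact mul_mem hq ((mem_normalizer_iff.1 (hcR w hw) _).1 (inv_mem hq))
    have hfu : f ∈ centralizer ({u} : Set G) :=
      centralizer_le (Set.singleton_subset_iff.2 (mem_zpowers u)) hf.2
    have hfw : ⁅f, w⁆ ∈ H := by
      refine mem_sup_right ⟨?_, h.commutator_le_core hx hx1 hu hu1
        (commutator_mem_commutator ⟨hf.1, hfu⟩ hw)⟩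
      exact CfsgLib.Core.commutator_le_of_normalizes hCn (commutator_mem_commutator hf.1 hw)
    rw [commutatorElement_mul_left_eq_conj_mul]
    exact mul_mem (mul_mem (mul_mem hqH hfw) (inv_mem hqH)) hqw
  · exact le_trans (inf_le_inf_left _ fun z hz => mem_dU.1 hz u hu hu1) le_sup_right
  · exact (commutator_mono le_rfl hzu).trans le_sup_left
  · intro z hz
    have hFn : C ≤ normalizer ((core x ⊓ core u : Subgroup G) : Set G) := fun e he =>
      inf_normalizer_le_normalizer_inf ⟨hCn he, h.E_le_normalizer_core (h.C_le hu) (h.C_le he)⟩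
    obtain ⟨w, hw, f, hf, rfl⟩ := h.split h.C_le hFn
      ((odd_core x).of_dvd_nat (card_dvd_of_le inf_le_left)) hz
    exact mul_mem (mem_sup_left (commutator_mono inf_le_left le_rfl hw))
      (mem_sup_right ⟨hf.1.1, h.mem_dU_of hu hu1 hf.1.2 hf.2⟩)

theorem pU_le_core {x : G} (hx : x ∈ E) : pU C x ≤ core x :=
  sup_le (CfsgLib.Core.commutator_le_of_normalizes (h.C_le.trans (h.E_le_normalizer_core hx))) inf_le_left

/-- At a point of `C` it is everything. -/
theorem pU_self {u : G} (hu : u ∈ C) (hu1 : u ≠ 1) : pU C u = core u :=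
  le_antisymm (h.pU_le_core (h.C_le hu))
    (le_trans (le_inf le_rfl le_rfl) (le_sup_right.trans (h.pU_eq (h.C_le hu) hu1 hu hu1).ge))

omit h in
theorem dU_map {U : Subgroup G} {g : G} (hU : g ∈ normalizer (U : Set G)) {z : G} (hz : z ∈ dU U) :
    g * z * g⁻¹ ∈ dU U := mem_dU.2 fun u hu hu1 => by
  have h1 : g⁻¹ * u * g ∈ U := by
    have := (mem_normalizer_iff.1 (inv_mem hU) u).1 hu
    rwa [inv_inv] at this
  have h2 := core_conj g _ (mem_dU.1 hz _ h1 fun e => hu1 (by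
    calc u = g * (g⁻¹ * u * g) * g⁻¹ := by group
      _ = 1 := by rw [e]; group))
  rwa [show g * (g⁻¹ * u * g) * g⁻¹ = u by group] at h2

omit h in
/-- Equivariance. -/
theorem pU_map {U : Subgroup G} {g x : G} (hU : g ∈ normalizer (U : Set G)) {z : G} (hz : z ∈ pU U x) :
    g * z * g⁻¹ ∈ pU U (g * x * g⁻¹) := by
  have hle : (pU U x).map (MulAut.conj g).toMonoidHom ≤ pU U (g * x * g⁻¹) := by
    have hUg : U.map (MulAut.conj g).toMonoidHom = U := mem_normalizer_iff_map_conj_eq.1 hU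
    rw [pU, Subgroup.map_sup, map_commutator, hUg]
    refine sup_le_sup (commutator_mono ?_ le_rfl) ?_
    · rintro _ ⟨y, hy, rfl⟩
      exact core_conj g x hy
    · rintro _ ⟨y, hy, rfl⟩
      exact ⟨core_conj g x hy.1, dU_map hU hy.2⟩
  exact hle ⟨z, hz, rfl⟩

omit h in
theorem th_map {g x : G} (hC : g ∈ normalizer (C : Set G)) (hV : g ∈ normalizer (V : Set G)) {z : G}
    (hz : z ∈ th V C x) : g * z * g⁻¹ ∈ th V C (g * x * g⁻¹) :=
  ⟨pU_map hC hz.1, pU_map hV hz.2⟩

theorem E_le_normalizer_C : E ≤ normalizer (C : Set G) := fun _ he =>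
  centralizer_le_normalizer _ (mem_centralizer_iff.2 fun _ hc => h.commE (h.C_le hc) he)

/-- `pU C x` is normalised by `C(x) ∩ C(u)`, `u ∈ C#`. -/
theorem pU_cent {x u : G} (hx : x ∈ E) (hx1 : x ≠ 1) (hu : u ∈ C) (hu1 : u ≠ 1) {g : G}
    (hgx : g ∈ centralizer ({x} : Set G)) (hgu : g ∈ centralizer ({u} : Set G)) {z : G} (hz : z ∈ pU C x) :
    g * z * g⁻¹ ∈ pU C x := by
  rw [h.pU_eq hx hx1 hu hu1] at hz ⊢
  have hle : (⁅core x, zpowers u⁆ ⊔ (core x ⊓ core u)).map (MulAut.conj g).toMonoidHom ≤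
      ⁅core x, zpowers u⁆ ⊔ (core x ⊓ core u) := by
    have hgu' : (MulAut.conj g).toMonoidHom u = u := by
      show g * u * g⁻¹ = u
      rw [mem_centralizer_singleton_iff.1 hgu, mul_inv_cancel_right]
    have hxg : (core x).map (MulAut.conj g).toMonoidHom = core x :=
      mem_normalizer_iff_map_conj_eq.1 (centralizer_le_normalizer_core x hgx)
    rw [Subgroup.map_sup, map_commutator, MonoidHom.map_zpowers, hgu', hxg]
    refine sup_le_sup le_rfl ?_
    rintro _ ⟨y, hy, rfl⟩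
    exact ⟨(mem_normalizer_iff.1 (centralizer_le_normalizer_core x hgx) y).1 hy.1,
      (mem_normalizer_iff.1 (centralizer_le_normalizer_core u hgu) y).1 hy.2⟩
  exact hle ⟨z, hz, rfl⟩

theorem th_le_core {x : G} (hx : x ∈ E) : th V C x ≤ core x := inf_le_left.trans (h.pU_le_core hx)

theorem th_inv {x : G} (hx : x ∈ E) {e : G} (he : e ∈ E) {z : G} (hz : z ∈ th V C x) :
    e * z * e⁻¹ ∈ th V C x := by
  have h1 := th_map (h.E_le_normalizer_C he) (h.symm.E_le_normalizer_C he) hz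
  rwa [h.commE he hx, mul_inv_cancel_right] at h1

theorem th_odd {x : G} (hx : x ∈ E) : Odd (Nat.card (th V C x)) :=
  (odd_core x).of_dvd_nat (card_dvd_of_le (h.th_le_core hx))

/-- A part of `th x ∩ C(y)` centralizes the components at `y` whose centralized part is `C`. -/
theorem th_commute {x y : G} (hx : x ∈ E) (hx1 : x ≠ 1) (hy : y ∈ E) (hy1 : y ≠ 1) {K : Subgroup (Quo y)}
    (hK : Cfsg.IsComponent K) (hcK : cK E y K = C) {z : G} (hz : z ∈ th V C x)
    (hzy : z ∈ centralizer ({y} : Set G)) :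
    ∀ k ∈ K, proj y ⟨z, hzy⟩ * k = k * proj y ⟨z, hzy⟩ := by
  have hyC : y ∈ C := hcK ▸ h.loc.a_mem_cK hy
  set Z := th V C x ⊓ centralizer ({y} : Set G) with hZ
  have hZn : C ≤ normalizer (Z : Set G) := fun e he => inf_normalizer_le_normalizer_inf
    ⟨CfsgLib.Signalizer.Solv.mem_normalizer_of_forall_le fun w hw => h.th_inv hx (h.C_le he) hw,
      le_normalizer (h.le_cent hy (h.C_le he))⟩
  obtain ⟨w, hw, f, hf, e⟩ := h.split h.C_le hZn
    ((h.th_odd hx).of_dvd_nat (card_dvd_of_le inf_le_left)) (⟨hz, hzy⟩ : z ∈ Z)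
  have hwZ : w ∈ Z := CfsgLib.Core.commutator_le_of_normalizes hZn hw
  have hfy : f ∈ core y := mem_dU.1 (h.pU_fixed hx hx1 hf.1.1.1 hf.2) y hyC hy1
  intro k hk
  have h1 : proj y ⟨z, hzy⟩ = proj y ⟨w, hwZ.2⟩ := by
    have hf1 : proj y ⟨f, hf.1.2⟩ = 1 := by
      obtain ⟨f', hf', hfe⟩ := hfy
      rw [show (⟨f, hf.1.2⟩ : ↥(centralizer ({y} : Set G))) = f' from Subtype.ext hfe.symm]
      exact (QuotientGroup.eq_one_iff _).2 hf'
    rw [show (⟨z, hzy⟩ : ↥(centralizer ({y} : Set G))) = ⟨w, hwZ.2⟩ * ⟨f, hf.1.2⟩ from Subtype.ext e, map_mul,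
      hf1, mul_one]
  rw [h1]
  exact h.commute_of_commutator hx hx1 hy hK hcK.ge w
    (commutator_mono (inf_le_inf_right _ (h.th_le_core hx)) le_rfl hw) hwZ.2 k hk

theorem th_inf_le_core {x y : G} (hx : x ∈ E) (hx1 : x ≠ 1) (hy : y ∈ E) (hy1 : y ≠ 1) :
    th V C x ⊓ centralizer ({y} : Set G) ≤ core y := fun z hz =>
  h.mem_core_of hx hx1 hy (h.th_le_core hx hz.1) hz.2 fun K hK => by
    rcases h.comp y hy hy1 K hK with e | e
    · exact h.th_commute hx hx1 hy hy1 hK e hz.1 hz.2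
    · exact h.symm.th_commute hx hx1 hy hy1 hK e (th_comm V C x ▸ hz.1) hz.2

theorem th_inf_le_pU {x y : G} (hx : x ∈ E) (hx1 : x ≠ 1) (hy : y ∈ E) (hy1 : y ≠ 1) :
    th V C x ⊓ centralizer ({y} : Set G) ≤ pU C y := by
  intro z hz
  set Z := th V C x ⊓ centralizer ({y} : Set G) with hZ
  have hZn : C ≤ normalizer (Z : Set G) := fun e he => inf_normalizer_le_normalizer_inf
    ⟨CfsgLib.Signalizer.Solv.mem_normalizer_of_forall_le fun w hw => h.th_inv hx (h.C_le he) hw,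
      le_normalizer (h.le_cent hy (h.C_le he))⟩
  have hle : Z ≤ core y := h.th_inf_le_core hx hx1 hy hy1
  obtain ⟨w, hw, f, hf, rfl⟩ := h.split h.C_le hZn
    ((h.th_odd hx).of_dvd_nat (card_dvd_of_le inf_le_left)) hz
  exact mul_mem (mem_sup_left (commutator_mono hle le_rfl hw))
    (mem_sup_right ⟨hle hf.1, h.pU_fixed hx hx1 hf.1.1.1 hf.2⟩)

/-- **Balance.** -/
theorem th_balance {x y : G} (hx : x ∈ E) (hx1 : x ≠ 1) (hy : y ∈ E) (hy1 : y ≠ 1) :
    th V C x ⊓ centralizer ({y} : Set G) ≤ th V C y :=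
  le_inf (h.th_inf_le_pU hx hx1 hy hy1)
    (fun _ hz => h.symm.th_inf_le_pU hx hx1 hy hy1 ⟨th_comm V C x ▸ hz.1, hz.2⟩)

/-- The completion. -/
theorem completion (h16 : Nat.card E = 16) :
    Odd (Nat.card ↥(⨆ a : {a : G // a ∈ E ∧ a ≠ 1}, th V C (a : G))) ∧
      ∀ a ∈ E, a ≠ 1 →
        (⨆ b : {a : G // a ∈ E ∧ a ≠ 1}, th V C (b : G)) ⊓ centralizer ({a} : Set G) = th V C a := by
  haveI : Fact (Nat.Prime 2) := ⟨Nat.prime_two⟩
  obtain ⟨h1, h2⟩ := Cfsg.Agent.S0217.result (p := 2) E (fun a ha b hb => h.commE ha hb) h.loc.elem.2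
    (by rw [h16]; norm_num) (fun a => th V C a)
    (fun a ha _ => (h.th_le_core ha).trans (core_le a))
    (fun a ha _ => fun hd => Nat.not_even_iff_odd.2 (h.th_odd ha) (even_iff_two_dvd.2 hd))
    (fun a ha _ b hb x hx => h.th_inv ha hb hx)
    (fun a ha _ => Cfsg.Agent.S0205.result (h.th_odd ha))
    (fun a ha ha1 b hb hb1 => h.th_balance ha ha1 hb hb1)
  exact ⟨Nat.not_even_iff_odd.1 fun he => h1 (even_iff_two_dvd.1 he), h2⟩

end Two

end CfsgLib.Walter.RankFour
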