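import Cfsg.Agent.Lib.Recog.Walter.RankFour.Functor
import Cfsg.Agent.Lib.Recog.Walter.RankFourCases
import Cfsg.Agent.Lib.Recog.Walter.ProductLemmaAt

/-!
Owner: helper15. Walter, rank four (slice S8).

* `Two.exists_proper`: a proper subgroup contains `E` and the centralizers of the points of `C`.
* `fourAt`: with the product lemma, `FourAt`.
-/

set_option autoImplicit false
set_option linter.style.haveILetI false
set_option linter.unusedSectionVars false

namespace CfsgLib.Walter.RankFour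

open Subgroup
open CfsgLib.AbelianSolvCent (omegaS sylow_comm)
open CfsgLib.Walter.SmallU (Local Quo proj cK core core_le core_conj IsBig meet join mem_meet)

universe u

variable {G : Type u} [Group G] [Finite G] {S : Sylow 2 G} {E V C : Subgroup G}

theorem mem_normalizer_normalizer {H : Subgroup G} {g : G} (h : g ∈ normalizer (H : Set G)) :
    g ∈ normalizer (centralizer (H : Set G) : Set G) :=
  CfsgLib.Transfer.normalizer_le_normalizer_centralizer H h

/-- The completion. -/
def WTh (E V C : Subgroup G) : Subgroup G := ⨆ a : {a : G // a ∈ E ∧ a ≠ 1}, th V C (a : G)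

namespace Two

variable (h : Two S E V C) (h16 : Nat.card E = 16)
include h h16

theorem th_le_WTh {a : G} (ha : a ∈ E) (ha1 : a ≠ 1) : th V C a ≤ WTh E V C :=
  le_iSup (fun a : {a : G // a ∈ E ∧ a ≠ 1} => th V C (a : G)) ⟨a, ha, ha1⟩

theorem E_le_normalizer_WTh : E ≤ normalizer (WTh E V C : Set G) := fun e he => by
  refine CfsgLib.Signalizer.Solv.mem_normalizer_of_forall_le fun x hx => ?_
  have hle : (WTh E V C).map (MulAut.conj e).toMonoidHom ≤ WTh E V C := by
    rw [WTh, Subgroup.map_iSup]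
    refine iSup_le fun a => le_trans ?_ (h.th_le_WTh h16 a.2.1 a.2.2)
    rintro _ ⟨y, hy, rfl⟩
    exact h.th_inv a.2.1 he hy
  exact hle ⟨x, hx, rfl⟩

/-- `N(S) ∩ N(C) ∩ N(V)` normalizes the completion. -/
theorem mem_normalizer_WTh {g : G} (hE : g ∈ normalizer (E : Set G)) (hC : g ∈ normalizer (C : Set G))
    (hV : g ∈ normalizer (V : Set G)) : g ∈ normalizer (WTh E V C : Set G) := by
  refine CfsgLib.Signalizer.Solv.mem_normalizer_of_forall_le fun x hx => ?_
  have hle : (WTh E V C).map (MulAut.conj g).toMonoidHom ≤ WTh E V C := by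
    rw [WTh, Subgroup.map_iSup]
    refine iSup_le fun a => le_trans ?_ (h.th_le_WTh h16 ((mem_normalizer_iff.1 hE _).1 a.2.1)
      fun e => a.2.2 (conj_eq_one_iff.1 e))
    rintro _ ⟨y, hy, rfl⟩
    exact th_map hC hV hy
  exact hle ⟨x, hx, rfl⟩

/-- `C(u) ∩ C(v)` normalizes the completion. -/
theorem cent_le_normalizer_WTh {u v : G} (hu : u ∈ C) (hu1 : u ≠ 1) (hv : v ∈ V) (hv1 : v ≠ 1) :
    centralizer ({u} : Set G) ⊓ centralizer ({v} : Set G) ≤ normalizer (WTh E V C : Set G) := by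
  haveI : Fact (Nat.Prime 2) := ⟨Nat.prime_two⟩
  intro g hg
  set D := zpowers u ⊔ zpowers v with hD
  have hDE : D ≤ E := sup_le (zpowers_le.2 (h.C_le hu)) (zpowers_le.2 (h.V_le hv))
  have hD4 : 4 ≤ Nat.card D := by
    have hvu : v ∉ zpowers u := fun e => hv1 (by
      have h2 : v ∈ V ⊓ C := ⟨hv, zpowers_le.2 hu e⟩
      rwa [h.disj, mem_bot] at h2)
    refine le_trans (le_of_eq ?_) (Local.card_double hvu)
    rw [Nat.card_zpowers, CfsgLib.Signalizer.orderOf_eq_two_of hu1 (SmallU.sq_one h.loc.elem (h.C_le hu))]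
  have hgD : D ≤ centralizer ({g} : Set G) := sup_le
    (zpowers_le.2 (mem_centralizer_singleton_iff.2 (mem_centralizer_singleton_iff.1 hg.1).symm))
    (zpowers_le.2 (mem_centralizer_singleton_iff.2 (mem_centralizer_singleton_iff.1 hg.2).symm))
  obtain ⟨hodd, hfix⟩ := h.completion h16
  have hgen : WTh E V C ≤ ⨆ d : {d : G // d ∈ D ∧ d ≠ 1}, th V C (d : G) :=
    CfsgLib.Signalizer.Solv.le_of_fixed_le (p := 2) (CfsgLib.Signalizer.elementary_of_le h.loc.elem hDE)
      (by norm_num; exact hD4) (hDE.trans (h.E_le_normalizer_WTh h16))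
      (fun hd => Nat.not_even_iff_odd.2 hodd (even_iff_two_dvd.2 hd))
      fun d hd hd1 => (hfix d (hDE hd) hd1).le.trans
        (le_iSup (fun d : {d : G // d ∈ D ∧ d ≠ 1} => th V C (d : G)) ⟨d, hd, hd1⟩)
  refine CfsgLib.Signalizer.Solv.mem_normalizer_of_forall_le fun x hx => ?_
  have hle : (WTh E V C).map (MulAut.conj g).toMonoidHom ≤ WTh E V C := by
    refine (Subgroup.map_mono hgen).trans ?_
    rw [Subgroup.map_iSup]
    refine iSup_le fun d => le_trans ?_ (h.th_le_WTh h16 (hDE d.2.1) d.2.2)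
    rintro _ ⟨y, hy, rfl⟩
    have hgd : g ∈ centralizer ({(d : G)} : Set G) :=
      mem_centralizer_singleton_iff.2 (mem_centralizer_singleton_iff.1 (hgD d.2.1)).symm
    exact ⟨h.pU_cent (hDE d.2.1) d.2.2 hu hu1 hgd hg.1 hy.1,
      h.symm.pU_cent (hDE d.2.1) d.2.2 hv hv1 hgd hg.2 hy.2⟩
  exact hle ⟨x, hx, rfl⟩

/-- `O(C(u))` normalizes the completion. -/
theorem core_le_normalizer_WTh {u : G} (hu : u ∈ C) (hu1 : u ≠ 1) :
    core u ≤ normalizer (WTh E V C : Set G) := by
  obtain ⟨v, hv, hv1⟩ := h.symm.exists_mem_C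
  have hvE := h.V_le hv
  intro x hx
  obtain ⟨q, hq, f, hf, rfl⟩ := h.split (zpowers_le.2 hvE)
    ((zpowers_le.2 hvE).trans (h.E_le_normalizer_core (h.C_le hu))) (SmallU.odd_core u) hx
  have hfv : f ∈ centralizer ({v} : Set G) :=
    centralizer_le (Set.singleton_subset_iff.2 (mem_zpowers v)) hf.2
  refine mul_mem (le_normalizer (h.th_le_WTh h16 (h.C_le hu) hu1 ⟨?_, ?_⟩))
    (h.cent_le_normalizer_WTh h16 hu hu1 hv hv1 ⟨core_le u hf.1, hfv⟩)
  · rw [h.pU_self hu hu1]
    exact CfsgLib.Core.commutator_le_of_normalizes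
      ((zpowers_le.2 hvE).trans (h.E_le_normalizer_core (h.C_le hu))) hq
  · rw [h.symm.pU_eq (h.C_le hu) hu1 hv hv1]
    exact mem_sup_left hq

variable [IsSimpleGroup G]

/-- **A proper subgroup containing `E` and the centralizers of the points of `C`.** -/
theorem exists_proper (hG : ¬ IsMulCommutative G)
    (hN : ∀ n ∈ normalizer ((S : Subgroup G) : Set G),
      n ∈ normalizer (E : Set G) ∧ n ∈ normalizer (C : Set G) ∧ n ∈ normalizer (V : Set G))
    (hbig : ∀ u ∈ C, u ≠ 1 → ∀ K : Subgroup (Quo u), Cfsg.IsComponent K → IsBig ↥K) :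
    ∃ M : Subgroup G, M ≠ ⊤ ∧ E ≤ M ∧ ∀ u ∈ C, u ≠ 1 → centralizer ({u} : Set G) ≤ M := by
  haveI : Fact (Nat.Prime 2) := ⟨Nat.prime_two⟩
  obtain ⟨hodd, -⟩ := h.completion h16
  obtain ⟨u₀, hu₀, hu₀1⟩ := h.exists_mem_C
  obtain ⟨v₀, hv₀, hv₀1⟩ := h.symm.exists_mem_C
  have hfin : ∀ R : Subgroup G, R ≠ ⊥ → R ≠ ⊤ →
      (∀ u ∈ C, u ≠ 1 → centralizer ({u} : Set G) ≤ normalizer (R : Set G)) →
      ∃ M : Subgroup G, M ≠ ⊤ ∧ E ≤ M ∧ ∀ u ∈ C, u ≠ 1 → centralizer ({u} : Set G) ≤ M := fun R hb ht hR =>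
    ⟨normalizer (R : Set G), fun e =>
      ((normalizer_eq_top_iff.1 e).eq_bot_or_eq_top).elim hb ht,
      (h.le_cent (h.C_le hu₀)).trans (hR u₀ hu₀ hu₀1), hR⟩
  by_cases hW : WTh E V C = ⊥
  · -- no signalizer: the conjugates of `V` under `C(C)`
    set R := closure {x : G | ∃ g ∈ centralizer (C : Set G), ∃ v ∈ V, g * v * g⁻¹ = x} with hR
    have hRC : R ≤ centralizer (C : Set G) := (closure_le _).2 (by
      rintro _ ⟨g, hg, v, hv, rfl⟩
      exact mul_mem (mul_mem hg (mem_centralizer_iff.2 fun c hc => h.commE (h.C_le hc) (h.V_le hv)))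
        (inv_mem hg))
    have hmap : ∀ g : G, g ∈ normalizer (C : Set G) → g ∈ normalizer (V : Set G) → g ∈ normalizer (R : Set G) := by
      intro g hgC hgV
      refine CfsgLib.Signalizer.Solv.mem_normalizer_of_forall_le fun x hx => ?_
      refine (closure_le (R.comap (MulAut.conj g).toMonoidHom)).2 ?_ hx
      rintro _ ⟨k, hk, v, hv, rfl⟩
      refine subset_closure ⟨g * k * g⁻¹, (mem_normalizer_iff.1 (mem_normalizer_normalizer hgC) k).1 hk,
        g * v * g⁻¹, (mem_normalizer_iff.1 hgV v).1 hv, ?_⟩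
      show g * k * g⁻¹ * (g * v * g⁻¹) * (g * k * g⁻¹)⁻¹ = g * (k * v * k⁻¹) * g⁻¹
      group
    have hCR : centralizer (C : Set G) ≤ normalizer (R : Set G) := fun g hg =>
      CfsgLib.Signalizer.Solv.mem_normalizer_of_forall_le fun x hx => by
        refine (closure_le (R.comap (MulAut.conj g).toMonoidHom)).2 ?_ hx
        rintro _ ⟨k, hk, v, hv, rfl⟩
        refine subset_closure ⟨g * k, mul_mem hg hk, v, hv, ?_⟩
        show g * k * v * (g * k)⁻¹ = g * (k * v * k⁻¹) * g⁻¹
        group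
    refine hfin R (fun e => hv₀1 ?_) (fun e => hu₀1 ?_) fun u hu hu1 => ?_
    · rw [← mem_bot, ← e]
      exact subset_closure ⟨1, one_mem _, v₀, hv₀, by group⟩
    · have hc : u₀ ∈ center G := mem_center_iff.2 fun g =>
        (mem_centralizer_iff.1 (hRC (e.ge (mem_top g))) u₀ hu₀).symm
      rcases (inferInstance : (center G).Normal).eq_bot_or_eq_top with e' | e'
      · rwa [e', mem_bot] at hc
      · exact absurd ⟨⟨fun x y => mem_center_iff.1 (e'.ge (mem_top y)) x⟩⟩ hG
    -- `O(C(u))` centralizes `V`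
    have hcen : ∀ v ∈ V, ∀ g ∈ core u, v * g = g * v := by
      intro v hv g hg
      rcases eq_or_ne v 1 with rfl | hv1
      · simp
      have hth : th V C u = ⊥ := le_bot_iff.1 (hW ▸ h.th_le_WTh h16 (h.C_le hu) hu1)
      have hz : zpowers v ≤ normalizer (core u : Set G) :=
        (zpowers_le.2 (h.V_le hv)).trans (h.E_le_normalizer_core (h.C_le hu))
      have hb : ⁅core u, zpowers v⁆ = ⊥ := by
        refine le_bot_iff.1 (le_trans (le_inf ?_ ?_) hth.le)
        · rw [h.pU_self hu hu1]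
          exact CfsgLib.Core.commutator_le_of_normalizes hz
        · exact le_sup_left.trans (h.symm.pU_eq (h.C_le hu) hu1 hv hv1).ge
      exact mem_centralizer_iff.1 (commutator_eq_bot_iff_le_centralizer.1 hb hg) v (mem_zpowers v)
    refine h.loc.cover (Cb := fun _ : Unit => C) (fun _ => h.C_le) (h.C_le hu)
      (fun K hK => ⟨(), (h.cK_eq_C hu hu1 hK).ge⟩) _ ?_ ?_ fun _ g hg => hCR hg.2
    · intro g hg
      refine centralizer_le_normalizer _ (mem_centralizer_iff.2 fun x hx => ?_)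
      revert x
      rw [show (∀ x ∈ (R : Set G), x * g = g * x) ↔ R ≤ centralizer ({g} : Set G) from
        ⟨fun h1 x hx => mem_centralizer_singleton_iff.2 (h1 x hx),
          fun h1 x hx => mem_centralizer_singleton_iff.1 (h1 hx)⟩, hR, closure_le]
      rintro _ ⟨k, hk, v, hv, rfl⟩
      refine mem_centralizer_singleton_iff.2 ?_
      have hku : k ∈ centralizer ({u} : Set G) :=
        mem_centralizer_singleton_iff.2 (mem_centralizer_iff.1 hk u hu).symm
      have h1 := hcen v hv (k⁻¹ * g * k) (by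
        have := (mem_normalizer_iff.1 (centralizer_le_normalizer_core u (inv_mem hku)) g).1 hg
        rwa [inv_inv] at this)
      calc k * v * k⁻¹ * g = k * (v * (k⁻¹ * g * k)) * k⁻¹ := by group
        _ = k * (k⁻¹ * g * k * v) * k⁻¹ := by rw [h1]
        _ = g * (k * v * k⁻¹) := by group
    · exact fun n hn => hmap n (hN n hn.1).2.1 (hN n hn.1).2.2
  · -- the completion
    refine hfin (WTh E V C) hW (fun e => ?_) fun u hu hu1 => ?_
    · have ho : orderOf u₀ = 2 := CfsgLib.Signalizer.orderOf_eq_two_of hu₀1 (SmallU.sq_one h.loc.elem (h.C_le hu₀))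
      have h1 : Odd (Nat.card ↥(WTh E V C)) := hodd
      rw [e, Subgroup.card_top] at h1
      exact Nat.not_even_iff_odd.2 h1 (even_iff_two_dvd.2 (ho ▸ orderOf_dvd_natCard u₀))
    refine h.loc.gen_of_le 8 (by rw [h16]) (h.C_le hu) (fun K hK => hbig u hu hu1 K hK) _
      (h.core_le_normalizer_WTh h16 hu hu1)
      (fun n hn => h.mem_normalizer_WTh h16 (hN n hn.1).1 (hN n hn.1).2.1 (hN n hn.1).2.2)
      fun D hDE _ hD8 => ?_
    obtain ⟨v, ⟨hvD, hv⟩, hv1⟩ := (D ⊓ V).bot_or_exists_ne_one.resolve_left fun e => by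
      have hc : Nat.card D * Nat.card V ≤ Nat.card E := by
        rw [← Nat.card_prod]
        refine Nat.card_le_card_of_injective
          (fun p : ↥D × ↥V => (⟨(p.1 : G) * p.2, mul_mem (hDE p.1.2) (h.V_le p.2.2)⟩ : ↥E)) fun p q e' => ?_
        exact Subgroup.mul_injective_of_disjoint (disjoint_iff.2 e) (congrArg Subtype.val e')
      rw [h.card_V, h16] at hc
      omega
    exact fun g hg => h.cent_le_normalizer_WTh h16 hu hu1 hv hv1 ⟨hg.1,
      mem_centralizer_singleton_iff.2 (mem_centralizer_iff.1 hg.2 v hvD).symm⟩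

end Two

end CfsgLib.Walter.RankFour

namespace CfsgLib.Walter

open Subgroup
open CfsgLib.AbelianSolvCent (SolvCent omegaS sylow_comm)
open CfsgLib.Walter.SmallU (Quo cK meet join mem_meet)

universe u

variable {G : Type u} [Group G] [Finite G] [IsSimpleGroup G] {S : Sylow 2 G}
  {hS : IsMulCommutative ↥(S : Subgroup G)} {ι : Type u} {V C : ι → Subgroup G}

/-- **Rank four.** -/
theorem fourAt (hG : ¬ IsMulCommutative G)
    (hsec : ∀ a ∈ omegaS S hS, a ≠ 1 → Sections.SecWalter ↥(centralizer ({a} : Set G)))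
    (hD : PairData S hS V C) (hT : TypeTransfer S hS C) : FourAt S hS V C := by
  classical
  rintro ⟨i, a, ha, ha1, K₀, hK₀, hnb, hi⟩ h16
  exfalso
  have hF := hD.frame
  have hloc := SmallU.local_of hS hsec
  have hcard : ∀ j, Nat.card (V j) = 4 ∧ Nat.card (C j) = 4 := by
    intro j
    have hmul : Nat.card (V j) * Nat.card (C j) ≤ 16 := by
      rw [← h16, ← Nat.card_prod]
      refine Nat.card_le_card_of_injective (fun p : ↥(V j) × ↥(C j) =>
        (⟨(p.1 : G) * p.2, mul_mem (hF.V_le j p.1.2) (hF.C_le j p.2.2)⟩ : ↥(omegaS S hS))) fun p q e => ?_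
      exact Subgroup.mul_injective_of_disjoint (disjoint_iff.2 (hF.disj j)) (congrArg Subtype.val e)
    have h1 := hF.four_le_V j
    have h2 := hF.four_le_C j
    have h3 := Nat.mul_le_mul_left (Nat.card (V j)) h2
    have h4 := Nat.mul_le_mul_right (Nat.card (C j)) h1
    omega
  have hother : ∀ j, j ≠ i → C j = V i := fun j hj =>
    (Subgroup.eq_of_le_of_card_ge (hF.orth i j (Ne.symm hj)) (by rw [(hcard j).2, (hcard i).1])).symm
  have hTwo : RankFour.Two S (omegaS S hS) (V i) (C i) :=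
    { loc := hloc
      V_le := hF.V_le i
      C_le := hF.C_le i
      disj := hF.disj i
      sup_eq := hF.sup_eq i
      card_V := (hcard i).1
      card_C := (hcard i).2
      comp := fun y hy hy1 K hK => by
        obtain ⟨j, hj⟩ := hD.cover y hy hy1 K hK
        have h4 := four_mul_cK_le hsec hy hy1 hK
        rw [h16] at h4
        have e := (Subgroup.eq_of_le_of_card_ge hj (by rw [(hcard j).2]; omega)).symm
        rcases eq_or_ne j i with rfl | hji
        · exact Or.inl e
        · exact Or.inr (e.trans (hother j hji)) }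
  have hfix : ∀ n ∈ normalizer ((S : Subgroup G) : Set G),
      (V i).map (MulAut.conj n).toMonoidHom = V i ∧ (C i).map (MulAut.conj n).toMonoidHom = C i := by
    intro n hn
    by_cases hex : ∃ j, j ≠ i
    · obtain ⟨j, hj⟩ := hex
      exact hF.map_eq_self (Ne.symm hj) (by rw [hother j hj, inf_comm]; exact hF.disj i) hn
    · push Not at hex
      obtain ⟨j, hj1, hj2⟩ := hF.conj n hn i
      rw [hex j] at hj1 hj2
      exact ⟨hj1.symm, hj2.symm⟩
  have hN : ∀ n ∈ normalizer ((S : Subgroup G) : Set G),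
      n ∈ normalizer (omegaS S hS : Set G) ∧ n ∈ normalizer (C i : Set G) ∧ n ∈ normalizer (V i : Set G) :=
    fun n hn => ⟨CfsgLib.Signalizer.Solv.mem_normalizer_of_forall_le fun _ hx => conj_mem_omega S hS hn hx,
      mem_normalizer_iff_map_conj_eq.2 (hfix n hn).2, mem_normalizer_iff_map_conj_eq.2 (hfix n hn).1⟩
  obtain ⟨M, hM, hEM, hCM⟩ := hTwo.exists_proper h16 hG hN fun u hu hu1 L hL =>
    hT a ha ha1 K₀ hK₀ hnb i hi u (hF.C_le i hu) hu1 L hL (hTwo.cK_eq_C hu hu1 hL).ge
  have hI : ∀ n ∈ normalizer ((S : Subgroup G) : Set G), ∀ k ∈ ({i} : Set ι), ∀ j,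
      C j = (C k).map (MulAut.conj n).toMonoidHom → j ∈ ({i} : Set ι) := by
    intro n hn k hk j hj
    rw [Set.mem_singleton_iff] at hk ⊢
    subst hk
    rw [(hfix n hn).2] at hj
    by_contra hne
    exact hF.V_ne_bot k (le_bot_iff.1 ((le_inf le_rfl ((hother j hne).symm.trans hj).le).trans (hF.disj k).le))
  have hmeet : meet S hS C {i} = C i := by
    ext x
    rw [mem_meet (hS := hS) (C := C)]
    constructor
    · exact fun hx => hx.2 i (Set.mem_singleton i)
    · intro hx
      refine ⟨hF.C_le i hx, fun k hk => ?_⟩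
      rw [Set.mem_singleton_iff] at hk
      rw [hk]
      exact hx
  have hjoin : join V {i} = V i := le_antisymm (iSup_le fun k => by
    rw [Set.mem_singleton_iff.1 k.2]) (SmallU.V_le_join (Set.mem_singleton i))
  refine productAt hG S hS (C i) (V i) M (by rw [inf_comm]; exact hF.disj i)
    (by rw [sup_comm]; exact hF.sup_eq i) (fun n hn => (hN n hn).2.1) (fun n hn => (hN n hn).2.2)
    (hcard i).2.ge (hF.V_ne_bot i) hM hEM hCM fun z hz hz1 e he hze g hg => ?_
  exact SmallU.fuse hF hsec hD.cover hI hz hz1 (by rw [hjoin]; exact he) (by rw [hmeet]; exact hze) hg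

end CfsgLib.Walter
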